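import Cfsg.Agent.KFacts.RgdLieCharP
import Cfsg.Agent.SignalizersComponents.CoprimeGen
import Cfsg.Agent.SignalizersComponents.QsBasic
import Cfsg.Agent.H298.UThree.Rep
/-!
# Standard subgroups of groups of Lie type of odd characteristic: Borel–Tits (helper17)

`G` simple with a filtered root group datum of characteristic `p ≠ 2`, `K` a standard subgroup of `G`, `V` a four-group
in `C(K)`: `V` normalises no `p`-subgroup `≠ 1` (`no_invariant`); `p` does not divide `|K|` (`not_dvd`).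
-/

set_option autoImplicit false

namespace Cfsg.Agent.H17.OU

open Subgroup Cfsg Cfsg.Agent.KFacts.RgdFilt

universe u

variable {G : Type u} [Group G]

/-- centralizers of involutions of `C(K)` normalise `K` -/
theorem cent_le_normalizer {K : Subgroup G} (hK : IsStandardSubgroup K) {v : G}
    (hv : v ∈ centralizer (K : Set G)) (hvv : v * v = 1) (hv1 : v ≠ 1) :
    centralizer ({v} : Set G) ≤ normalizer (K : Set G) := by
  intro g hg
  rw [hK.2.2.2]
  by_contra hno
  have h1 := hK.2.1.2 g hno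
  have h2 : v ∈ centralizer (K : Set G) ⊓ (centralizer (K : Set G)).map (MulAut.conj g).toMonoidHom := by
    refine ⟨hv, v, hv, ?_⟩
    change g * v * g⁻¹ = v
    have h3 := mem_centralizer_singleton_iff.1 hg
    rw [h3, mul_inv_cancel_right]
  have h3 : orderOf v = 2 := orderOf_eq_prime (by rw [pow_two, hvv]) hv1
  have h4 : orderOf v ∣ Nat.card ↥(centralizer (K : Set G) ⊓ (centralizer (K : Set G)).map (MulAut.conj g).toMonoidHom) := by
    have h5 := orderOf_dvd_natCard (⟨v, h2⟩ : ↥(centralizer (K : Set G) ⊓ (centralizer (K : Set G)).map (MulAut.conj g).toMonoidHom))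
    rwa [orderOf_mk] at h5
  rw [h3] at h4
  exact h1.not_two_dvd_nat h4

variable [Finite G]

/-- a `V`-invariant subgroup of odd order lies in `N(K)` -/
theorem le_of_inv {K : Subgroup G} (hK : IsStandardSubgroup K) {V : Subgroup G}
    (hVK : V ≤ centralizer (K : Set G)) (hV : ∀ v ∈ V, v * v = 1) (hV4 : 4 ≤ Nat.card V) {W : Subgroup G}
    (hW : ¬ 2 ∣ Nat.card W) (hVW : V ≤ normalizer (W : Set G)) : W ≤ normalizer (K : Set G) := by
  have : Fact (Nat.Prime 2) := ⟨Nat.prime_two⟩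
  have hel : IsElementaryAbelian 2 V := by
    refine ⟨⟨⟨fun a b => ?_⟩⟩, fun a ha => by rw [pow_two, hV a ha]⟩
    apply Subtype.ext
    change (a : G) * b = b * a
    have h1 := hV _ (mul_mem a.2 b.2)
    have h2 := hV _ a.2
    have h3 := hV _ b.2
    have e1 : (a : G)⁻¹ = a := inv_eq_of_mul_eq_one_left h2
    have e2 : (b : G)⁻¹ = b := inv_eq_of_mul_eq_one_left h3
    have e3 : ((a : G) * b)⁻¹ = a * b := inv_eq_of_mul_eq_one_left h1
    rw [mul_inv_rev, e1, e2] at e3
    exact e3.symm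
  refine (SignalizersComponents.CoprimeGen.le_iSup_centralizer_ne_one hel (by norm_num; exact hV4) hW hVW).trans ?_
  refine iSup_le fun v => inf_le_right.trans ?_
  exact cent_le_normalizer hK (hVK v.2.1) (hV _ v.2.1) v.2.2

/-- **A four-group in `C(K)` normalises no `p`-subgroup `≠ 1`.** -/
theorem no_invariant [IsSimpleGroup G] {p : ℕ} [hp : Fact p.Prime] (hp2 : p ≠ 2) (hG : HasFilt p G)
    (hc : ∃ a b : G, a * b ≠ b * a) {K : Subgroup G} (hK : IsStandardSubgroup K) {V : Subgroup G}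
    (hVK : V ≤ centralizer (K : Set G)) (hV : ∀ v ∈ V, v * v = 1) (hV4 : 4 ≤ Nat.card V) {W0 : Subgroup G}
    (hW0 : IsPGroup p W0) (hW1 : W0 ≠ ⊥) (hVW : V ≤ normalizer (W0 : Set G)) : False := by
  have hpodd : ∀ W : Subgroup G, IsPGroup p W → ¬ 2 ∣ Nat.card W := by
    intro W hW h2
    obtain ⟨n, hn⟩ := (IsPGroup.iff_card (p := p)).1 hW
    rw [hn] at h2
    exact hp2 ((Nat.prime_dvd_prime_iff_eq Nat.prime_two hp.out).1 (Nat.prime_two.dvd_of_dvd_pow h2)).symm
  have hVp : ∀ W : Subgroup G, IsPGroup p W → ∀ x ∈ V, x ∈ W → x = 1 := by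
    intro W hW x hx hxW
    by_contra h1
    have h3 : orderOf x = 2 := orderOf_eq_prime (by rw [pow_two, hV x hx]) h1
    have h5 := orderOf_dvd_natCard (⟨x, hxW⟩ : W)
    rw [orderOf_mk, h3] at h5
    exact hpodd W hW h5
  -- `W = O_p(N(W0))`
  have key : ∀ W0 : Subgroup G, IsPGroup p W0 → W0 ≠ ⊥ → V ≤ normalizer (W0 : Set G) → ∃ W : Subgroup G,
      IsPGroup p W ∧ W ≤ normalizer (W0 : Set G) ∧ (∀ g ∈ normalizer (W0 : Set G), ∀ w ∈ W, g * w * g⁻¹ ∈ W) ∧
        (∀ g ∈ normalizer (W0 : Set G), (∀ w ∈ W, g * w = w * g) → g ∈ W) := by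
    intro W0 hW0 hW1 _
    refine ⟨(pCore p ↥(normalizer (W0 : Set G))).map (normalizer (W0 : Set G)).subtype, ?_, map_subtype_le _, ?_, ?_⟩
    · exact (Lib.Cores.pCore_isPGroup p).map _
    · rintro g hg _ ⟨w, hw, rfl⟩
      have h1 : (pCore p ↥(normalizer (W0 : Set G))).Normal := inferInstance
      exact ⟨⟨g, hg⟩ * w * ⟨g, hg⟩⁻¹, h1.conj_mem w hw ⟨g, hg⟩, rfl⟩
    · intro g hg h
      refine ⟨⟨g, hg⟩, hG.local_char hc hW0 hW1 ?_, rfl⟩
      rw [mem_centralizer_iff]
      intro w hw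
      exact Subtype.ext (h w ⟨w, hw, rfl⟩).symm
  obtain ⟨W, hWp, hWN, hWn, hWc⟩ := key W0 hW0 hW1 hVW
  have hVW' : V ≤ normalizer (W : Set G) := by
    intro v hv
    rw [mem_normalizer_iff]
    intro w
    constructor
    · exact hWn v (hVW hv) w
    · intro h
      have := hWn v⁻¹ (inv_mem (hVW hv)) _ h
      have e : v⁻¹ * (v * w * v⁻¹) * v⁻¹⁻¹ = w := by group
      rwa [e] at this
  have hWK := le_of_inv hK hVK hV hV4 (hpodd W hWp) hVW'
  -- `W ∩ C(K) ≠ 1`
  set Y := centralizer (K : Set G) with hY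
  have hYn : normalizer (K : Set G) = normalizer (Y : Set G) := hK.2.2.2
  let W1 : Subgroup G := W ⊓ Y
  have hW1p : IsPGroup p W1 := hWp.to_le inf_le_left
  have hVW1 : V ≤ normalizer (W1 : Set G) := by
    intro v hv
    rw [mem_normalizer_iff]
    intro w
    have h1 := mem_normalizer_iff.1 (hVW' hv) w
    have h2 := mem_normalizer_iff.1 (le_normalizer (H := Y) (hVK hv)) w
    exact and_congr h1 h2
  have hW1ne : W1 ≠ ⊥ := by
    intro hbot
    -- `V` centralises `W`
    have h1 : ∀ v ∈ V, v ∈ W := by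
      intro v hv
      refine hWc v (hVW hv) fun w hw => ?_
      have h2 : v * w * v⁻¹ * w⁻¹ ∈ W1 := by
        refine ⟨W.mul_mem (hWn v (hVW hv) w hw) (W.inv_mem hw), ?_⟩
        have h3 : w * v⁻¹ * w⁻¹ ∈ Y := by
          have h4 := hWK hw
          rw [hYn] at h4
          exact (mem_normalizer_iff.1 h4 _).1 (inv_mem (hVK hv))
        have e : v * w * v⁻¹ * w⁻¹ = v * (w * v⁻¹ * w⁻¹) := by group
        rw [e]
        exact Y.mul_mem (hVK hv) h3
      rw [hbot, mem_bot] at h2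
      rw [mul_inv_eq_one, mul_inv_eq_iff_eq_mul] at h2
      exact h2
    have h2 : V = ⊥ := by
      rw [eq_bot_iff]
      intro v hv
      exact mem_bot.2 (hVp W hWp v hv (h1 v hv))
    rw [h2, Subgroup.card_bot] at hV4
    omega
  obtain ⟨W2, hW2p, hW2N, hW2n, hW2c⟩ := key W1 hW1p hW1ne hVW1
  have hVW2 : V ≤ normalizer (W2 : Set G) := by
    intro v hv
    rw [mem_normalizer_iff]
    intro w
    constructor
    · exact hW2n v (hVW1 hv) w
    · intro h
      have := hW2n v⁻¹ (inv_mem (hVW1 hv)) _ h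
      have e : v⁻¹ * (v * w * v⁻¹) * v⁻¹⁻¹ = w := by group
      rwa [e] at this
  have hW2K := le_of_inv hK hVK hV hV4 (hpodd W2 hW2p) hVW2
  -- `K` normalises `W1`
  have hKW1 : K ≤ normalizer (W1 : Set G) := by
    intro k hk
    rw [mem_normalizer_iff]
    have h0 : ∀ k ∈ K, ∀ w ∈ W1, k * w * k⁻¹ = w := fun k hk w hw => by
      rw [mem_centralizer_iff.1 hw.2 k hk, mul_inv_cancel_right]
    intro w
    constructor
    · intro hw
      rw [h0 k hk w hw]; exact hw
    · intro hw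
      have h1 := h0 k⁻¹ (inv_mem hk) _ hw
      have e : k⁻¹ * (k * w * k⁻¹) * k⁻¹⁻¹ = w := by group
      rw [e] at h1
      rwa [← h1] at hw
  -- `[W2, K] ≤ W2 ∩ K` is central
  have hW2Y : ∀ g ∈ W2, g ∈ centralizer (K : Set G) := by
    have hqs := hK.1
    have hn : ((W2 ⊓ K).subgroupOf K).Normal := by
      refine ⟨fun w hw k => ?_⟩
      rw [mem_subgroupOf] at hw ⊢
      exact ⟨hW2n k (hKW1 k.2) _ hw.1, K.mul_mem (K.mul_mem k.2 hw.2) (K.inv_mem k.2)⟩
    have hcen : (W2 ⊓ K).subgroupOf K ≤ center ↥K := by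
      apply SignalizersComponents.QsBasic.normal_le_center_of_ne_top hqs
      intro htop
      have h1 : IsPGroup p ↥K := by
        refine hW2p.to_le ?_
        intro k hk
        have h2 : (⟨k, hk⟩ : K) ∈ (W2 ⊓ K).subgroupOf K := by rw [htop]; trivial
        exact (mem_subgroupOf.1 h2).1
      have := h1.isNilpotent
      exact Cfsg.Agent.Lib.ComponentSolvable.quasisimple_not_solvable hqs inferInstance
    intro g hg
    refine H298.UThree.comm_of_central hqs.1.commutator_eq_top fun k hk => ?_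
    have h1 : g * k * g⁻¹ * k⁻¹ ∈ K := mul_mem ((mem_normalizer_iff.1 (hW2K hg) k).1 hk) (inv_mem hk)
    refine ⟨h1, ?_⟩
    have h2 : g * k * g⁻¹ * k⁻¹ ∈ W2 := by
      have e : g * k * g⁻¹ * k⁻¹ = g * (k * g⁻¹ * k⁻¹) := by group
      rw [e]
      exact W2.mul_mem hg (hW2n k (hKW1 hk) _ (W2.inv_mem hg))
    have h3 : (⟨_, h1⟩ : K) ∈ center ↥K := hcen (mem_subgroupOf.2 ⟨h2, h1⟩)
    rw [mem_centralizer_iff]
    intro l hl
    exact congrArg Subtype.val (mem_center_iff.1 h3 ⟨l, hl⟩)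
  have hKW2 : K ≤ W2 := by
    intro k hk
    exact hW2c k (hKW1 hk) fun w hw => mem_centralizer_iff.1 (hW2Y w hw) k hk
  have h1 : IsPGroup p ↥K := hW2p.to_le hKW2
  have := h1.isNilpotent
  exact Cfsg.Agent.Lib.ComponentSolvable.quasisimple_not_solvable hK.1 inferInstance

/-- **`p` does not divide `|K|`.** -/
theorem not_dvd [IsSimpleGroup G] {p : ℕ} [hp : Fact p.Prime] (hp2 : p ≠ 2) (hG : HasFilt p G)
    (hc : ∃ a b : G, a * b ≠ b * a) {K : Subgroup G} (hK : IsStandardSubgroup K) {V : Subgroup G}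
    (hVK : V ≤ centralizer (K : Set G)) (hV : ∀ v ∈ V, v * v = 1) (hV4 : 4 ≤ Nat.card V) :
    ¬ p ∣ Nat.card K := by
  intro h
  obtain ⟨k, hk⟩ := exists_prime_orderOf_dvd_card' p h
  have hk' : orderOf (k : G) = p := by rw [← hk]; exact orderOf_coe k
  have h1 : IsPGroup p (zpowers (k : G)) := by
    rw [IsPGroup.iff_card]
    exact ⟨1, by rw [Nat.card_zpowers, hk', pow_one]⟩
  refine no_invariant hp2 hG hc hK hVK hV hV4 h1 ?_ ?_
  · rw [Ne, zpowers_eq_bot]
    intro h2
    rw [h2, orderOf_one] at hk'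
    exact hp.out.one_lt.ne hk'
  · intro v hv
    have h2 : v * (k : G) = k * v := (mem_centralizer_iff.1 (hVK hv) k k.2).symm
    have h3 : v ∈ centralizer (zpowers (k : G) : Set G) := by
      rw [mem_centralizer_iff]
      intro y hy
      obtain ⟨i, rfl⟩ := mem_zpowers_iff.1 hy
      have h4 : Commute (k : G) v := h2.symm
      exact h4.zpow_left i
    exact centralizer_le_normalizer _ h3

end Cfsg.Agent.H17.OU
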