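import Cfsg.Agent.StdU3.Semi
import Cfsg.Agent.H340.Deg
import Cfsg.Agent.OddHalf.D4.U3.Torus
/-!
# The degree of a representation of the Borel subgroup of `PSU₃(q)`, `q = 2 ^ n`, in odd characteristic (helper17)

* `dim_ge` : a representation of the Sylow 2-subgroup `Heis σ` on which `Z` acts by a nontrivial character has degree
  at least `q`;
* `bound` : a representation of `Heis σ`, nontrivial on `Z`, which extends to the torus, has degree at least
  `(q - 1) q`.
-/

set_option autoImplicit false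
set_option linter.unusedSectionVars false

namespace Cfsg.Agent.H17.OU.HeisRep

open Cfsg.Agent.LieRecognition Cfsg.Agent.LieRecognition.HermHeis Cfsg.Agent.StdU3.URel
  Cfsg.Agent.StdU3.Field Cfsg.Agent.StdU3.Semi Module

universe u v w

variable {F : Type u} [Field F] [Fintype F] [CharP F 2] {σ : F →+* F} [hσ : Fact (∀ x, σ (σ x) = x)] {n : ℕ}

/-- the central elements -/
def zz (t : F) : Heis σ := zet (t + σ t) (by rw [map_add, HermHeis.sig, add_comm])

theorem zz_a (t : F) : (zz t : Heis σ).a = 0 := rfl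

theorem zz_b (t : F) : (zz t : Heis σ).b = t + σ t := rfl

theorem zz_add (s t : F) : (zz (s + t) : Heis σ) = zz s * zz t := by
  ext
  · simp [zz_a]
  · rw [mul_b, zz_b, zz_b, zz_b, zz_a, map_add, zero_mul, add_zero]
    ring

theorem zz_zero : (zz 0 : Heis σ) = 1 := by
  ext
  · rfl
  · rw [zz_b, map_zero, add_zero]; rfl

theorem zz_comm (t : F) (x : Heis σ) : zz t * x = x * zz t := comm_of_a_eq_zero (zz_a t) x

theorem mul_swap (x y : Heis σ) : y * x = x * y * zz (y.a * σ x.a) := by
  ext
  · rw [mul_a, mul_a, mul_a, zz_a, add_zero, add_comm]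
  · rw [mul_b, mul_b, mul_b, zz_b, zz_a, map_zero, mul_zero, add_zero, map_mul, HermHeis.sig]
    linear_combination -(CharTwo.add_self_eq_zero (x.a * σ y.a))

theorem act_zz (l : Fˣ) (t : F) : act l (zz t : Heis σ) = zz (nm σ l * t) := by
  ext
  · rw [act_a, zz_a, zz_a, mul_zero]
  · rw [act_b, zz_b, zz_b, map_mul, fixed_nm, mul_add]

section Rep

variable {k : Type v} [Field k] {V : Type w} [AddCommGroup V] [Module k V] [FiniteDimensional k V]
  (f : Heis σ →* Module.End k V)

/-- the eigenspace of `Z` for the character `χ` -/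
def X (χ : F → k) : Submodule k V := ⨅ t : F, LinearMap.ker (f (zz t) - χ t • (1 : Module.End k V))

theorem mem_X {χ : F → k} {v : V} : v ∈ X f χ ↔ ∀ t, f (zz t) v = χ t • v := by
  unfold X
  rw [Submodule.mem_iInf]
  refine forall_congr' fun t => ?_
  rw [LinearMap.mem_ker]
  exact sub_eq_zero

theorem f_f (x y : Heis σ) (v : V) : f x (f y v) = f (x * y) v := by
  rw [map_mul]; rfl

theorem f_one (v : V) : f 1 v = v := by rw [map_one]; rfl

theorem f_mem {χ : F → k} (x : Heis σ) {v : V} (hv : v ∈ X f χ) : f x v ∈ X f χ := by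
  rw [mem_X] at hv ⊢
  intro t
  rw [f_f, zz_comm, ← f_f, hv, map_smul]

/-- a nontrivial character of `Z` occurs -/
theorem exists_chi (h2 : (2 : k) ≠ 0) (hf : ∃ t : F, f (zz t : Heis σ) ≠ 1) :
    ∃ χ : F → k, (∀ t, χ t = 1 ∨ χ t = -1) ∧ (∀ s t, χ (s + t) = χ s * χ t) ∧ (∃ t, χ t = -1) ∧ X f χ ≠ ⊥ := by
  obtain ⟨t0, ht0⟩ := hf
  have hzz : ∀ t : F, (zz t : Heis σ) * zz t = 1 := fun t => by
    rw [← zz_add, CharTwo.add_self_eq_zero, zz_zero]
  let W := LinearMap.ker (f (zz t0) + 1)
  have hW : ∀ v, v ∈ W ↔ f (zz t0) v = -v := fun v => by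
    rw [LinearMap.mem_ker]
    exact add_eq_zero_iff_eq_neg
  have hWn : W ≠ ⊥ := by
    intro hbot
    apply ht0
    apply LinearMap.ext
    intro v
    change f (zz t0) v = v
    have h3 : f (zz t0) v - v ∈ W := by
      rw [hW, map_sub, f_f, hzz, f_one, neg_sub]
    rw [hbot, Submodule.mem_bot] at h3
    exact sub_eq_zero.1 h3
  obtain ⟨v0, hv0W, hv0, hv0e⟩ := H340.Deg.exists_eigen h2
    ((Finset.univ : Finset F).toList.map fun t => f (zz t)) W hWn
    (by
      intro y hy v hv
      obtain ⟨t, -, rfl⟩ := List.mem_map.1 hy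
      rw [hW] at hv ⊢
      rw [f_f, ← zz_comm, ← f_f, hv, map_neg])
    (by
      intro y hy v _
      obtain ⟨t, -, rfl⟩ := List.mem_map.1 hy
      rw [f_f, hzz, f_one])
    (by
      intro y hy x hx v _
      obtain ⟨t, -, rfl⟩ := List.mem_map.1 hy
      obtain ⟨s, -, rfl⟩ := List.mem_map.1 hx
      rw [f_f, f_f, zz_comm])
  have hv0e' : ∀ t, f (zz t) v0 = v0 ∨ f (zz t) v0 = -v0 := fun t =>
    hv0e _ (List.mem_map.2 ⟨t, Finset.mem_toList.2 (Finset.mem_univ t), rfl⟩)
  classical
  let χ : F → k := fun t => if f (zz t) v0 = v0 then 1 else -1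
  have hχ : ∀ t, f (zz t) v0 = χ t • v0 := by
    intro t
    change f (zz t) v0 = (if f (zz t) v0 = v0 then (1 : k) else -1) • v0
    by_cases h : f (zz t) v0 = v0
    · rw [if_pos h, one_smul]; exact h
    · rw [if_neg h, neg_smul, one_smul]
      exact (hv0e' t).resolve_left h
  have hχ2 : ∀ t, χ t = 1 ∨ χ t = -1 := by
    intro t
    change (if f (zz t) v0 = v0 then (1 : k) else -1) = 1 ∨ (if f (zz t) v0 = v0 then (1 : k) else -1) = -1
    by_cases h : f (zz t) v0 = v0
    · left; rw [if_pos h]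
    · right; rw [if_neg h]
  have hχadd : ∀ s t, χ (s + t) = χ s * χ t := by
    intro s t
    have h3 : χ (s + t) • v0 = (χ s * χ t) • v0 := by
      rw [← hχ, zz_add, ← f_f, hχ t, map_smul, hχ s, smul_smul, mul_comm]
    have h4 : (χ (s + t) - χ s * χ t) • v0 = 0 := by rw [sub_smul, h3, sub_self]
    exact sub_eq_zero.1 ((smul_eq_zero.1 h4).resolve_right hv0)
  refine ⟨χ, hχ2, hχadd, ⟨t0, ?_⟩, ?_⟩
  · have h3 : χ t0 • v0 = (-1 : k) • v0 := by
      rw [← hχ, (hW v0).1 hv0W, neg_smul, one_smul]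
    have h4 : (χ t0 - (-1)) • v0 = 0 := by rw [sub_smul, h3, sub_self]
    exact sub_eq_zero.1 ((smul_eq_zero.1 h4).resolve_right hv0)
  · intro hbot
    have h3 : v0 ∈ X f χ := (mem_X f).2 hχ
    rw [hbot, Submodule.mem_bot] at h3
    exact hv0 h3

/-- the sum of the values of a nontrivial character -/
theorem sum_chi (h2 : (2 : k) ≠ 0) {χ : F → k} (hadd : ∀ s t, χ (s + t) = χ s * χ t) {t1 : F} (ht1 : χ t1 = -1) :
    ∑ e : F, χ e = 0 := by
  have h1 : ∑ e : F, χ (e + t1) = ∑ e : F, χ e := Equiv.sum_comp (Equiv.addRight t1) χ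
  have h3 : ∑ e : F, χ (e + t1) = -∑ e : F, χ e := by
    rw [← Finset.sum_neg_distrib]
    refine Finset.sum_congr rfl fun e _ => ?_
    rw [hadd, ht1, mul_neg, mul_one]
  rw [h1] at h3
  have h4 : (2 : k) * ∑ e : F, χ e = 0 := by linear_combination h3
  exact (mul_eq_zero.1 h4).resolve_left h2

/-- **The multiplicity of a nontrivial character of `Z`.** -/
theorem dim_ge (hS : Sg σ n) (h2 : (2 : k) ≠ 0) {χ : F → k} (hχ0 : χ 0 = 1) (hadd : ∀ s t, χ (s + t) = χ s * χ t)
    {t1 : F} (ht1 : χ t1 = -1) (hX : X f χ ≠ ⊥) : 2 ^ n ≤ finrank k (X f χ) := by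
  classical
  -- elements with prescribed first coordinate
  choose g hg using fun a : F => exists_a hS a
  have hXn : Nontrivial (X f χ) := Submodule.nontrivial_iff_ne_bot.2 hX
  let T : Heis σ → Module.End k (X f χ) := fun x => (f x).restrict (fun v hv => f_mem f x hv)
  have hT : ∀ x (v : X f χ), ((T x v : X f χ) : V) = f x v := fun _ _ => rfl
  have hTT : ∀ x y (v : X f χ), T x (T y v) = T (x * y) v := fun x y v =>
    Subtype.ext (by rw [hT, hT, hT, f_f])
  have hT1 : ∀ v : X f χ, T 1 v = v := fun v => Subtype.ext (by rw [hT, f_one])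
  have hTz : ∀ t (v : X f χ), T (zz t) v = χ t • v := fun t v => Subtype.ext ((mem_X f).1 v.2 t)
  have hcard : (Fintype.card F : k) ≠ 0 := by
    rw [hS.hq.hK]
    push_cast
    exact pow_ne_zero _ (pow_ne_zero _ h2)
  have hind : LinearIndependent k (fun a : F => T (g a)) := by
    rw [Fintype.linearIndependent_iff]
    intro c hc a0
    -- apply the relation to `v`, conjugate by `g e`
    have h1 : ∀ (e : F) (v : X f χ), ∑ a : F, (c a * χ (e * σ a)) • T (g a) v = 0 := by
      intro e v
      have h3 := LinearMap.congr_fun hc (T (g e)⁻¹ v)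
      rw [LinearMap.sum_apply] at h3
      have h4 := congrArg (T (g e)) h3
      rw [map_sum, LinearMap.zero_apply, map_zero] at h4
      rw [← h4]
      refine Finset.sum_congr rfl fun a _ => ?_
      rw [LinearMap.smul_apply, map_smul, hTT, hTT]
      have h5 : g e * (g a * (g e)⁻¹) = g a * zz (e * σ a) := by
        have h6 := mul_swap (g a) (g e)
        rw [hg, hg] at h6
        rw [← mul_assoc, h6, mul_assoc, mul_assoc, zz_comm, ← mul_assoc (g e), mul_inv_cancel, one_mul]
      rw [mul_assoc, h5, ← hTT, hTz, map_smul, smul_smul]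
    have h3 : ∀ v : X f χ, (c a0 * (Fintype.card F : k)) • T (g a0) v = 0 := by
      intro v
      have h4 : ∑ e : F, χ (e * σ a0) • ∑ a : F, (c a * χ (e * σ a)) • T (g a) v = 0 := by
        refine Finset.sum_eq_zero fun e _ => ?_
        rw [h1, smul_zero]
      rw [← h4]
      have h5 : ∀ a : F, ∑ e : F, χ (e * σ a0) * (c a * χ (e * σ a)) = if a = a0 then c a0 * (Fintype.card F : k) else 0 := by
        intro a
        have h6 : ∀ e : F, χ (e * σ a0) * (c a * χ (e * σ a)) = c a * χ (e * σ (a0 + a)) := by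
          intro e
          rw [map_add, mul_add, hadd]
          ring
        rw [Finset.sum_congr rfl fun e _ => h6 e, ← Finset.mul_sum]
        by_cases h : a = a0
        · subst h
          rw [if_pos rfl, CharTwo.add_self_eq_zero]
          simp [hχ0]
        · rw [if_neg h]
          have hb : σ (a0 + a) ≠ 0 := by
            intro hb
            rw [map_eq_zero] at hb
            apply h
            rw [CharTwo.add_eq_zero] at hb
            exact hb.symm
          have h7 : ∑ e : F, χ (e * σ (a0 + a)) = ∑ e : F, χ e :=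
            Equiv.sum_comp (Equiv.mulRight₀ (σ (a0 + a)) hb) χ
          rw [h7, sum_chi h2 hadd ht1, mul_zero]
      calc (c a0 * (Fintype.card F : k)) • T (g a0) v
          = ∑ a : F, (if a = a0 then c a0 * (Fintype.card F : k) else 0) • T (g a) v := by
            rw [Finset.sum_eq_single a0]
            · rw [if_pos rfl]
            · intro a _ ha
              rw [if_neg ha, zero_smul]
            · intro h; exact absurd (Finset.mem_univ _) h
        _ = ∑ a : F, ∑ e : F, (χ (e * σ a0) * (c a * χ (e * σ a))) • T (g a) v := by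
            refine Finset.sum_congr rfl fun a _ => ?_
            rw [← h5, Finset.sum_smul]
        _ = ∑ e : F, χ (e * σ a0) • ∑ a : F, (c a * χ (e * σ a)) • T (g a) v := by
            rw [Finset.sum_comm]
            refine Finset.sum_congr rfl fun e _ => ?_
            rw [Finset.smul_sum]
            refine Finset.sum_congr rfl fun a _ => ?_
            rw [smul_smul]
    obtain ⟨v, hv⟩ := exists_ne (0 : X f χ)
    have h4 := h3 (T (g a0)⁻¹ v)
    rw [hTT, mul_inv_cancel, hT1] at h4
    have h5 := (smul_eq_zero.1 h4).resolve_right hv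
    exact (mul_eq_zero.1 h5).resolve_right hcard
  have h1 := hind.fintype_card_le_finrank
  rw [Module.finrank_linearMap, hS.hq.hK] at h1
  have h3 : (2 ^ n) ^ 2 ≤ (finrank k (X f χ)) ^ 2 := by rw [sq (finrank k _)]; exact h1
  exact (Nat.pow_le_pow_iff_left two_ne_zero).1 h3

/-- the eigenspaces of `Z` are independent -/
theorem indep : iSupIndep fun χ : F → k => X f χ := by
  refine (Module.End.independent_iInf_maxGenEigenspace_of_forall_mapsTo (fun t : F => f (zz t)) ?_).mono ?_
  · intro i j φ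
    refine Module.End.mapsTo_maxGenEigenspace_of_comm ?_ φ
    change f (zz j) * f (zz i) = f (zz i) * f (zz j)
    rw [← map_mul, ← map_mul, zz_comm]
  · intro χ v hv
    rw [mem_X] at hv
    rw [Module.End.mem_iInf_maxGenEigenspace_iff]
    intro j
    refine ⟨1, ?_⟩
    rw [pow_one]
    exact sub_eq_zero.2 (hv j)

theorem sum_finrank_le {ι : Type*} [Fintype ι] (W : ι → Submodule k V) (h : iSupIndep W) :
    ∑ i, finrank k (W i) ≤ finrank k V := by
  classical
  have h1 := h.dfinsupp_lsum_injective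
  have h3 := LinearMap.finrank_le_finrank_of_injective h1
  have h4 : finrank k (Π₀ i, W i) = ∑ i, finrank k (W i) := Module.finrank_directSum (R := k) (fun i => W i)
  rw [h4] at h3
  exact h3

/-- **The degree of a representation of the Borel subgroup.** -/
theorem bound (hS : Sg σ n) (h2 : (2 : k) ≠ 0) (hf : ∃ t : F, f (zz t : Heis σ) ≠ 1) (D : Fˣ → Module.End k V)
    (hDi : ∀ l, Function.Injective (D l)) (hD : ∀ l x, D l * f x = f (act l x) * D l) :
    (2 ^ n - 1) * 2 ^ n ≤ finrank k V := by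
  classical
  obtain ⟨χ, hχ2, hadd, ⟨t0, ht0⟩, hX⟩ := exists_chi f h2 hf
  have hone : (1 : k) ≠ -1 := fun h => h2 (by linear_combination h)
  have hχ0 : χ 0 = 1 := by
    have h1 := hadd 0 0
    rw [add_zero] at h1
    rcases hχ2 0 with h | h
    · exact h
    · rw [h] at h1
      exact absurd (by linear_combination -h1) hone
  let C := {c : F // bar n c = c ∧ c ≠ 0}
  have hdim : ∀ c : C, 2 ^ n ≤ finrank k (X f (fun t => χ (c.1 * t))) := by
    intro c
    have hcb : σ (c.1)⁻¹ = (c.1)⁻¹ := by rw [map_inv₀, hS.eq, c.2.1]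
    obtain ⟨a, ha⟩ := (fieldOK hS).surj _ hcb
    have ha0 : a ≠ 0 := by
      rintro rfl
      rw [zero_mul] at ha
      exact inv_ne_zero c.2.2 ha.symm
    let l : Fˣ := Units.mk0 a ha0
    have hl : nm σ l = (c.1)⁻¹ := ha
    have hne : X f (fun t => χ (c.1 * t)) ≠ ⊥ := by
      obtain ⟨v, hv, hv0⟩ := Submodule.exists_mem_ne_zero_of_ne_bot hX
      intro hbot
      have h1 : D l v ∈ X f (fun t => χ (c.1 * t)) := by
        rw [mem_X] at hv ⊢
        intro t
        have h3 := LinearMap.congr_fun (hD l (zz (c.1 * t))) v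
        rw [act_zz, hl, inv_mul_cancel_left₀ c.2.2] at h3
        change D l (f (zz (c.1 * t)) v) = f (zz t) (D l v) at h3
        rw [← h3, hv, map_smul]
      rw [hbot, Submodule.mem_bot] at h1
      exact hv0 (hDi l (by rw [h1, map_zero]))
    refine dim_ge f hS h2 (χ := fun t => χ (c.1 * t)) ?_ ?_ (t1 := (c.1)⁻¹ * t0) ?_ hne
    · change χ (c.1 * 0) = 1
      rw [mul_zero, hχ0]
    · intro s t
      change χ (c.1 * (s + t)) = χ (c.1 * s) * χ (c.1 * t)
      rw [mul_add, hadd]
    · change χ (c.1 * ((c.1)⁻¹ * t0)) = -1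
      rw [mul_inv_cancel_left₀ c.2.2, ht0]
  have hinj : Function.Injective (fun c : C => fun t => χ (c.1 * t)) := by
    intro c c' h
    by_contra hne
    have h1 : c.1 + c'.1 ≠ 0 := by
      intro h3
      exact hne (Subtype.ext (CharTwo.add_eq_zero.1 h3))
    have h3 : χ ((c.1 + c'.1) * ((c.1 + c'.1)⁻¹ * t0)) = 1 := by
      rw [add_mul, hadd]
      have h4 := congrFun h ((c.1 + c'.1)⁻¹ * t0)
      change χ (c.1 * ((c.1 + c'.1)⁻¹ * t0)) = χ (c'.1 * ((c.1 + c'.1)⁻¹ * t0)) at h4
      rw [h4]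
      rcases hχ2 (c'.1 * ((c.1 + c'.1)⁻¹ * t0)) with h5 | h5
      · rw [h5]; ring
      · rw [h5]; ring
    rw [mul_inv_cancel_left₀ h1, ht0] at h3
    exact hone h3.symm
  have hC : Fintype.card C = 2 ^ n - 1 := by
    have h1 := Cfsg.Agent.OddHalf.D4.U3.Torus.ncard_fixed hS.hq
    have h3 : ({x : F | bar n x = x ∧ x ≠ 0} : Set F) = {x : F | bar n x = x} \ {0} := by
      ext x
      simp
    have h4 : ({x : F | bar n x = x ∧ x ≠ 0} : Set F).ncard = 2 ^ n - 1 := by
      rw [h3, Set.ncard_sdiff_singleton_of_mem, h1]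
      change bar n 0 = 0
      rw [← hS.eq, map_zero]
    rw [← Nat.card_eq_fintype_card]
    exact h4
  have h1 := sum_finrank_le (fun c : C => X f (fun t => χ (c.1 * t))) ((indep f).comp hinj)
  calc (2 ^ n - 1) * 2 ^ n = ∑ _c : C, 2 ^ n := by
        rw [Finset.sum_const, Finset.card_univ, hC, smul_eq_mul]
    _ ≤ ∑ c : C, finrank k (X f (fun t => χ (c.1 * t))) := Finset.sum_le_sum fun c _ => hdim c
    _ ≤ finrank k V := h1

end Rep

end Cfsg.Agent.H17.OU.HeisRep
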