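import Cfsg.Agent.H17.OU.Heis
import Cfsg.Agent.H340.ExcEmb
import Cfsg.Agent.H337.UThreeQuot
import Cfsg.Agent.H298.UThree.Rep
/-!
# `U₃(2 ^ n)`, `n ≥ 5`, and its covers have no faithful representation of degree at most 248 in odd characteristic
(helper17)
-/

set_option autoImplicit false
set_option linter.unusedSectionVars false

namespace Cfsg.Agent.H17.OU

open Subgroup Cfsg Cfsg.Agent.LieRecognition Cfsg.Agent.LieRecognition.HermHeis Cfsg.Agent.StdU3.URel
  Cfsg.Agent.StdU3.Field Cfsg.Agent.StdU3.Semi Cfsg.Agent.StdU3 Module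

universe u v

/-- the degree of a faithful representation of a central cover of `U₃(q)` -/
theorem le_of_rep {L : Type u} [Group L] [Finite L] (hodd : Odd (Nat.card ↥(center L))) {F : Type v} [Field F]
    [Fintype F] [CharP F 2] {σ : F →+* F} [hσ : Fact (∀ x, σ (σ x) = x)] {n : ℕ} (hS : Sg σ n)
    (R : URel (L ⧸ center L) σ) {m : ℕ} (h : H340.HasRep m L) : (2 ^ n - 1) * 2 ^ n ≤ m := by
  obtain ⟨k, _, V, _, _, _, h2, hm, ρ, hρ⟩ := h
  refine le_trans ?_ hm
  -- lift the Sylow 2-subgroup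
  have hker : (QuotientGroup.mk' (center L)).ker = center L := QuotientGroup.ker_mk' _
  have hT2 : IsPGroup 2 ↥(R.u.range) := by
    rintro ⟨_, x, rfl⟩
    refine ⟨2, Subtype.ext ?_⟩
    change R.u x ^ 2 ^ 2 = 1
    have : (2 : ℕ) ^ 2 = 4 := by norm_num
    rw [this, ← map_pow, Cfsg.Agent.StdU3.Base.heis_pow_four, map_one]
  obtain ⟨s0, hs0⟩ := H340.Deg.exists_section (QuotientGroup.mk' (center L)) (QuotientGroup.mk'_surjective _)
    (by rw [hker]; exact hodd) R.u.range hT2
  let s : Heis σ →* L := s0.comp R.u.rangeRestrict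
  have hs : ∀ x, (QuotientGroup.mk' (center L)) (s x) = R.u x := fun x => hs0 _
  let f : Heis σ →* Module.End k V := (Units.coeHom (Module.End k V)).comp (ρ.comp s)
  -- lift the torus
  choose d hd using fun l : Fˣ => QuotientGroup.mk'_surjective (center L) (R.d l)
  have hds : ∀ l x, d l * s x = s (act l x) * d l := by
    intro l x
    have h1 : (s (act l x))⁻¹ * (d l * s x * (d l)⁻¹) ∈ center L := by
      have h3 : QuotientGroup.mk' (center L) ((s (act l x))⁻¹ * (d l * s x * (d l)⁻¹)) = 1 := by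
        rw [map_mul, map_mul, map_mul, map_inv, map_inv, hs, hs, hd, R.d_u, mul_inv_cancel_right, inv_mul_cancel]
      rw [← hker]
      exact h3
    set z := (s (act l x))⁻¹ * (d l * s x * (d l)⁻¹) with hz
    have h3 : d l * s x * (d l)⁻¹ = s (act l x) * z := by rw [hz, mul_inv_cancel_left]
    have h4 : (d l * s x * (d l)⁻¹) ^ 4 = 1 := by
      rw [conj_pow, ← map_pow, Cfsg.Agent.StdU3.Base.heis_pow_four, map_one, mul_one, mul_inv_cancel]
    have hcom : Commute (s (act l x)) z := mem_center_iff.1 h1 _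
    rw [h3, hcom.mul_pow, ← map_pow, Cfsg.Agent.StdU3.Base.heis_pow_four, map_one, one_mul] at h4
    have h5 : z = 1 := by
      have h6 : orderOf z ∣ 4 := orderOf_dvd_of_pow_eq_one h4
      have h7 : orderOf z ∣ Nat.card ↥(center L) := by
        have := orderOf_dvd_natCard (⟨z, h1⟩ : center L)
        rwa [orderOf_mk] at this
      have h8 : Nat.Coprime 4 (Nat.card ↥(center L)) := by
        have h9 : Nat.Coprime (2 ^ 2) (Nat.card ↥(center L)) :=
          Nat.Coprime.pow_left 2 (Nat.coprime_two_left.2 hodd)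
        norm_num at h9
        exact h9
      exact orderOf_eq_one_iff.1 (Nat.eq_one_of_dvd_coprimes h8 h6 h7)
    rw [h5, mul_one, mul_inv_eq_iff_eq_mul] at h3
    exact h3
  refine HeisRep.bound f hS h2 ?_ (fun l => ((ρ (d l) : (Module.End k V)ˣ) : Module.End k V)) ?_ ?_
  · obtain ⟨z, hz, hz1⟩ := Cfsg.Agent.StdU3.Base.exists_z_ne (σ := σ)
    obtain ⟨c, hc⟩ := sg_tr hS z.b (b_fixed_of_a_eq_zero hz)
    refine ⟨c, fun h => hz1 ?_⟩
    have h1 : (HeisRep.zz c : Heis σ) = z := ext_z (HeisRep.zz_a c) hz (by rw [HeisRep.zz_b, hc])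
    rw [h1] at h
    have h3 : ρ (s z) = 1 := Units.ext h
    have h4 : s z = 1 := hρ (by rw [h3, map_one])
    have h5 : R.u z = 1 := by rw [← hs, h4, map_one]
    exact R.u_inj (by rw [h5, map_one])
  · intro l x y hxy
    have h1 := congrArg (fun w => (((ρ (d l))⁻¹ : (Module.End k V)ˣ) : Module.End k V) w) hxy
    change ((((ρ (d l))⁻¹ : (Module.End k V)ˣ) : Module.End k V) * ((ρ (d l) : (Module.End k V)ˣ) : Module.End k V)) x =
      ((((ρ (d l))⁻¹ : (Module.End k V)ˣ) : Module.End k V) * ((ρ (d l) : (Module.End k V)ˣ) : Module.End k V)) y at h1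
    rw [Units.inv_mul] at h1
    exact h1
  · intro l x
    change ((ρ (d l) : (Module.End k V)ˣ) : Module.End k V) * ((ρ (s x) : (Module.End k V)ˣ) : Module.End k V) =
      ((ρ (s (act l x)) : (Module.End k V)ˣ) : Module.End k V) * ((ρ (d l) : (Module.End k V)ˣ) : Module.End k V)
    rw [← Units.val_mul, ← Units.val_mul, ← map_mul, ← map_mul, hds]

/-- **No faithful representation of degree at most 248.** -/
theorem not_hasRep {L : Type u} [Group L] [Finite L] (hq : IsQuasisimple L) {F : Type v} [Field F] [Fintype F] {n : ℕ}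
    (hn : 5 ≤ n) (hF : Fintype.card F = 4 ^ n) (hU : Nonempty ((L ⧸ center L) ≃* Cfsg.PSU 3 F (2 ^ n))) :
    ¬ H340.HasRep 248 L := by
  intro h
  have hodd := H337.UThreeQuot.odd_center hq (by omega) hF hU
  haveI : CharP F 2 := LZeroTop.charP_two hF
  have hqd := LZeroTop.qd (by omega) hF
  let σ : F →+* F := iterateFrobenius F 2 n
  have hσ : ∀ x, σ x = bar n x := fun x => iterateFrobenius_def 2 n x
  haveI : Fact (∀ x, σ (σ x) = x) := ⟨fun x => by rw [hσ, hσ, bar_bar hqd]⟩
  have hS : Sg σ n := ⟨hqd, hσ⟩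
  obtain ⟨R0⟩ := URelModel.nonempty_urel (σ := σ) (n := n) (by omega) hσ
    (by rw [Nat.card_eq_fintype_card, hqd.hK])
  obtain ⟨e⟩ := hU
  have h1 := le_of_rep hodd hS (R0.map e.symm) h
  have h3 : 2 ^ 5 ≤ 2 ^ n := Nat.pow_le_pow_right (by norm_num) hn
  have h4 : 31 * 32 ≤ (2 ^ n - 1) * 2 ^ n := Nat.mul_le_mul (by omega) (by omega)
  omega

end Cfsg.Agent.H17.OU
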