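import Cfsg.Agent.H298.UThree.Rep
import Cfsg.Agent.H166.FieldAut
/-!
# `Aut(PSU₃(q))`, `q = 2 ^ n`: elements of order prime to `|PSU₃(q)|` and to `2 n` (helper17)
-/

set_option autoImplicit false
set_option linter.unusedSectionVars false

namespace Cfsg.Agent.H17.OU

open Subgroup Cfsg.Agent.LieRecognition Cfsg.Agent.LieRecognition.HermHeis Cfsg.Agent.StdU3.URel
  Cfsg.Agent.StdU3.Field Cfsg.Agent.StdU3.Semi Cfsg.Agent.OddHalf.D4.Basic
open Cfsg.Agent.OddHalf.D4.CommConj (cj mem_cj cj_mul card_cj cj_eq_of_mem_normalizer mem_normalizer_of_cj_eq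
  mem_cj_mul)
open Cfsg.Agent.OddHalf.D4.U3.ParDefs Cfsg.Agent.OddHalf.D4.U3.Torus
open Cfsg.Agent.H298.UThree Cfsg.Agent.H298.UThree.Act

universe u v

variable {A : Type u} [Group A] [Finite A] {F : Type v} [Field F] [Fintype F] [CharP F 2] {σ : F →+* F}
  [hσ : Fact (∀ x, σ (σ x) = x)] {n : ℕ} {I : Subgroup A}

/-- elements of order a power of `r` of a group are conjugate into every subgroup of index prime to `r` -/
theorem exists_conj_mem {A : Type*} [Group A] [Finite A] {R : Subgroup A} {r : ℕ} [hr : Fact r.Prime]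
    (hR : ¬ r ∣ R.index) {y : A} {k : ℕ} (hy : y ^ r ^ k = 1) : ∃ g : A, g⁻¹ * y * g ∈ R := by
  have h1 : IsPGroup r ↥(zpowers y) := by
    rintro ⟨z, hz⟩
    obtain ⟨j, rfl⟩ := mem_zpowers_iff.1 hz
    refine ⟨k, Subtype.ext ?_⟩
    change (y ^ j) ^ r ^ k = 1
    rw [← zpow_natCast, ← zpow_mul, mul_comm, zpow_mul, zpow_natCast, hy, one_zpow]
  have hc : ¬ r ∣ Nat.card (A ⧸ R) := hR
  obtain ⟨x, hx⟩ := h1.nonempty_fixed_point_of_prime_not_dvd_card (A ⧸ R) hc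
  obtain ⟨g, rfl⟩ := QuotientGroup.mk_surjective x
  refine ⟨g, ?_⟩
  have h2 := hx ⟨y, mem_zpowers y⟩
  have h3 : ((y * g : A) : A ⧸ R) = (g : A ⧸ R) := h2
  rw [eq_comm, QuotientGroup.eq] at h3
  rw [mul_assoc]
  exact h3

/-- the index of the normaliser of `S` divides `|I|` -/
theorem index_dvd (a : Amb I) (p : Par I σ n) : (normalizer (p.S : Set A)).index ∣ Nat.card I := by
  set R := normalizer (p.S : Set A) with hR
  have h1 : ∀ g : A, ∃ i ∈ I, i * g ∈ R := by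
    intro g
    have hle : cj g p.S ≤ I := by
      rintro _ ⟨s, hs, rfl⟩
      exact a.nor g s (p.S_le hs)
    obtain ⟨k, hk, h⟩ := p.exists_cj_le (T := cj g p.S) (p.S_two.map _) hle
    have heq : cj k (cj g p.S) = p.S := by
      apply eq_of_le_of_card_ge h
      rw [card_cj, card_cj]
    refine ⟨k, hk, ?_⟩
    rw [hR]
    apply mem_normalizer_of_cj_eq
    rw [cj_mul]
    exact heq
  have h2 : MulAction.orbit ↥I ((1 : A) : A ⧸ R) = Set.univ := by
    rw [Set.eq_univ_iff_forall]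
    intro x
    obtain ⟨g, rfl⟩ := QuotientGroup.mk_surjective x
    obtain ⟨i, hi, h⟩ := h1 g
    refine ⟨⟨i⁻¹, inv_mem hi⟩, ?_⟩
    change ((i⁻¹ * 1 : A) : A ⧸ R) = (g : A ⧸ R)
    rw [mul_one, QuotientGroup.eq, inv_inv]
    exact h
  have h3 := MulAction.index_stabilizer ↥I ((1 : A) : A ⧸ R)
  rw [h2, Set.ncard_univ] at h3
  change _ = R.index at h3
  rw [← h3]
  exact index_dvd_card _

/-- **elements of order prime to `|I|` and to `2 n` are trivial** -/
theorem eq_one_of_pElem (a : Amb I) (p : Par I σ n) {r : ℕ} [hr : Fact r.Prime] (hI : ¬ r ∣ Nat.card I)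
    (hn : ¬ r ∣ 2 * n) (hq : ¬ r ∣ (2 ^ n) ^ 2 - 1) {y : A} {k : ℕ} (hy : y ^ r ^ k = 1) : y = 1 := by
  obtain ⟨g, hg⟩ := exists_conj_mem (fun h => hI (h.trans (index_dvd a p))) hy
  set z := g⁻¹ * y * g with hz
  have hzk : z ^ r ^ k = 1 := by
    have : z = g⁻¹ * y * g⁻¹⁻¹ := by rw [hz, inv_inv]
    rw [this, conj_pow, hy, mul_one, mul_inv_cancel]
  suffices h : z = 1 by
    rw [hz, mul_assoc, inv_mul_eq_one] at h
    have : y * g = 1 * g := by rw [one_mul]; exact h.symm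
    exact mul_right_cancel this
  have hcj : cj z p.S = p.S := cj_eq_of_mem_normalizer hg
  obtain ⟨c, hc, τ, hsl⟩ := exists_sl p hcj
  have hft : Finite (F ≃+* F) := Cfsg.Agent.StdU3.FieldAut.finite_aut
  have hcop : ∀ {m : ℕ}, ¬ r ∣ m → (r ^ k).Coprime m := fun h =>
    Nat.Coprime.pow_left k ((Nat.Prime.coprime_iff_not_dvd hr.out).2 h)
  have hτ : τ = 1 := by
    obtain ⟨d, hd⟩ := sl_pow' p hsl (r ^ k)
    rw [hzk] at hd
    have h1 : τ ^ r ^ k = 1 := (hd.unique p.hS (pw_bot p) SL.one).2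
    have h2 : Nat.card (F ≃+* F) = 2 * n := by
      have : Fact (Nat.Prime 2) := ⟨Nat.prime_two⟩
      exact Cfsg.Agent.H166.FieldAut.card_ringAut 2 (2 * n) (by rw [p.hS.hq.hK, ← pow_mul, mul_comm])
    have h3 : orderOf τ ∣ r ^ k := orderOf_dvd_of_pow_eq_one h1
    have h4 : orderOf τ ∣ 2 * n := by rw [← h2]; exact orderOf_dvd_natCard τ
    exact orderOf_eq_one_iff.1 (Nat.eq_one_of_dvd_coprimes (hcop hn) h3 h4)
  subst hτ
  have hc1 : c = 1 := by
    have h3 := sl_pow p hsl (r ^ k)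
    rw [hzk] at h3
    have h4 := (h3.unique p.hS (pw_bot p) SL.one).1
    have h5 : c ^ ((2 ^ n) ^ 2 - 1) = 1 := by
      rw [← p.hS.hq.hK]
      exact FiniteField.pow_card_sub_one_eq_one c hc
    have h6 : orderOf c ∣ r ^ k := orderOf_dvd_of_pow_eq_one h4
    have h7 : orderOf c ∣ (2 ^ n) ^ 2 - 1 := orderOf_dvd_of_pow_eq_one h5
    exact orderOf_eq_one_iff.1 (Nat.eq_one_of_dvd_coprimes (hcop hq) h6 h7)
  subst hc1
  have hzS := a.mem_of_sl p hsl
  have h1 : orderOf z ∣ r ^ k := orderOf_dvd_of_pow_eq_one hzk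
  have h2 : orderOf z ∣ Nat.card I := by
    have := orderOf_dvd_natCard (⟨z, p.S_le hzS⟩ : I)
    rwa [orderOf_mk] at this
  exact orderOf_eq_one_iff.1 (Nat.eq_one_of_dvd_coprimes (hcop hI) h1 h2)

end Cfsg.Agent.H17.OU
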